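import Cfsg.Agent.Lib.SemisimpleClasses.Symplectic

/-!
Elements of order `r * s` in `Sp(2n, q)`, `r`, `s` odd primes not dividing `q`.
-/

set_option autoImplicit false

namespace CfsgLib.Singer.Symp

open Polynomial Matrix

/-! ### The subgroup generated by `q` and `-1` -/

theorem pow_eq_neg_one {r : ℕ} [Fact r.Prime] {x : ZMod r} {η : ℕ} (hη : 2 * η = orderOf x)
    (h0 : 0 < η) : x ^ η = -1 := by
  have h1 : (x ^ η) ^ 2 = 1 := by rw [← pow_mul, mul_comm, hη, pow_orderOf_eq_one]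
  refine (sq_eq_one_iff.1 h1).resolve_left fun h => ?_
  have := Nat.le_of_dvd h0 (orderOf_dvd_of_pow_eq_one h)
  omega

theorem neg_one_ne_one_of_prime {r : ℕ} [hr : Fact r.Prime] (hr2 : r ≠ 2) : (-1 : ZMod r) ≠ 1 := by
  have : Fact (2 < r) := ⟨lt_of_le_of_ne hr.out.two_le (Ne.symm hr2)⟩
  exact ZMod.neg_one_ne_one

variable {m : ℕ}

/-- The subgroup of `(ZMod m)ˣ` generated by `u` and `-1`. -/
abbrev signedPowers (u : (ZMod m)ˣ) : Subgroup (ZMod m)ˣ := Subgroup.closure {u, -1}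

theorem two_eta_le {r : ℕ} [Fact r.Prime] (hr2 : r ≠ 2) (u : (ZMod r)ˣ) {η : ℕ}
    (hη : (Odd (orderOf u) ∧ η = orderOf u) ∨ (Even (orderOf u) ∧ 2 * η = orderOf u)) :
    2 * η ≤ Nat.card (signedPowers u) := by
  have hu : u ∈ signedPowers u := Subgroup.subset_closure (by simp)
  have h1 : orderOf u ∣ Nat.card (signedPowers u) := Subgroup.orderOf_dvd_natCard _ hu
  rcases hη with ⟨hodd, rfl⟩ | ⟨-, he⟩
  · have hne : (-1 : (ZMod r)ˣ) ≠ 1 := fun h => by
      have h' : ((-1 : (ZMod r)ˣ) : ZMod r) = 1 := by rw [h, Units.val_one]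
      rw [Units.val_neg, Units.val_one] at h'
      exact neg_one_ne_one_of_prime hr2 h'
    have h2 : 2 ∣ Nat.card (signedPowers u) := by
      rw [← orderOf_eq_prime (p := 2) (neg_one_sq) hne]
      exact Subgroup.orderOf_dvd_natCard _ (Subgroup.subset_closure (by simp))
    exact Nat.le_of_dvd Nat.card_pos ((Nat.coprime_two_left.2 hodd).mul_dvd_of_dvd_of_dvd h2 h1)
  · exact he ▸ Nat.le_of_dvd Nat.card_pos h1

theorem map_signedPowers {m' : ℕ} (h : m' ∣ m) (u : (ZMod m)ˣ) :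
    (signedPowers u).map (Units.map (ZMod.castHom h (ZMod m') : ZMod m →* ZMod m')) =
      signedPowers (Units.map (ZMod.castHom h (ZMod m') : ZMod m →* ZMod m') u) := by
  rw [MonoidHom.map_closure, Set.image_insert_eq, Set.image_singleton]
  congr 3
  exact Units.ext (by simp)

/-- Either the subgroup is big, or `l / k` is an odd integer. -/
theorem signed_bound {r s : ℕ} [Fact r.Prime] [Fact s.Prime] (hr2 : r ≠ 2) (hs2 : s ≠ 2) {q : ℕ}
    [NeZero (r * s)] (u : (ZMod (r * s))ˣ) (hu : (u : ZMod (r * s)) = q) {k l ηk ηl : ℕ}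
    (hk : k = orderOf (q : ZMod r)) (hl : l = orderOf (q : ZMod s))
    (hηk : (Odd k ∧ ηk = k) ∨ (Even k ∧ 2 * ηk = k)) (hηl : (Odd l ∧ ηl = l) ∨ (Even l ∧ 2 * ηl = l))
    (hkl : ηk ≤ ηl) :
    2 * ηk + 2 * ηl ≤ Nat.card (signedPowers u) ∨ ∃ t, Odd t ∧ l = k * t := by
  set fr := Units.map (ZMod.castHom (Dvd.intro s rfl : r ∣ r * s) (ZMod r) : ZMod (r * s) →* ZMod r)
  set fs := Units.map (ZMod.castHom (Dvd.intro_left r rfl : s ∣ r * s) (ZMod s) : ZMod (r * s) →* ZMod s)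
  have hfr : ((fr u : (ZMod r)ˣ) : ZMod r) = q := by simp [fr, hu]
  have hfs : ((fs u : (ZMod s)ˣ) : ZMod s) = q := by simp [fs, hu]
  have hor : orderOf (fr u) = k := by rw [← orderOf_units, hfr, hk]
  have hos : orderOf (fs u) = l := by rw [← orderOf_units, hfs, hl]
  have hs1 : 2 * ηl ≤ Nat.card (signedPowers (fs u)) := two_eta_le hs2 _ (hos.symm ▸ hηl)
  set U := signedPowers u
  have hdvd : Nat.card (U.map fs) ∣ Nat.card U := Subgroup.card_map_dvd U fs
  have hmap : U.map fs = signedPowers (fs u) := map_signedPowers _ u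
  rcases eq_or_ne (Nat.card U) (Nat.card (U.map fs)) with heq | hne
  · refine Or.inr ?_
    have hinj : Function.Injective (fs.subgroupMap U) :=
      ((Nat.bijective_iff_surjective_and_card _).2 ⟨fs.subgroupMap_surjective U, heq⟩).injective
    have hker : ∀ v ∈ U, fs v = 1 → fr v = 1 := fun v hv h => by
      have h1 : (⟨v, hv⟩ : U) = 1 := hinj (Subtype.ext (by simpa using h))
      rw [show v = 1 from congrArg Subtype.val h1, map_one]
    have huU : u ∈ U := Subgroup.subset_closure (by simp)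
    have h1 := hker (u ^ l) (pow_mem huU l) (by rw [map_pow, ← hos, pow_orderOf_eq_one])
    rw [map_pow, ← orderOf_dvd_iff_pow_eq_one, hor] at h1
    obtain ⟨t, ht⟩ := h1
    refine ⟨t, ?_, ht⟩
    rcases hηl with ⟨hodd, -⟩ | ⟨-, he⟩
    · rw [ht] at hodd
      exact (Nat.odd_mul.1 hodd).2
    · by_contra hte
      obtain ⟨c, hc⟩ := Nat.not_odd_iff_even.1 hte
      have hl0 : 0 < l := hos ▸ orderOf_pos _
      have hneg : (-1 : (ZMod (r * s))ˣ) ∈ U := Subgroup.subset_closure (by simp)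
      have hz : fs (u ^ ηl * (-1)) = 1 := Units.ext <| by
        have h := pow_eq_neg_one (x := (q : ZMod s)) (he.trans hl) (by omega)
        simp [fs, hu, h]
      have h2 := congrArg (fun z : (ZMod r)ˣ => (z : ZMod r))
        (hker _ (mul_mem (pow_mem huU ηl) hneg) hz)
      simp [fr, hu] at h2
      have h3 : (q : ZMod r) ^ ηl = 1 := by
        rw [← orderOf_dvd_iff_pow_eq_one, ← hk]
        exact ⟨c, by rw [hc, mul_add] at ht; omega⟩
      rw [h3] at h2
      exact neg_one_ne_one_of_prime hr2 h2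
  · refine Or.inl ?_
    obtain ⟨c, hc⟩ := hdvd
    have hc2 : 2 ≤ c := by
      by_contra hlt
      interval_cases c
      · exact Nat.card_pos.ne' (by simpa using hc)
      · exact hne (by simpa using hc)
    have : Nat.card (U.map fs) * 2 ≤ Nat.card U := hc ▸ Nat.mul_le_mul_left _ hc2
    rw [hmap] at this
    omega

/-! ### Eigenvalues -/

variable {F : Type*} [Field F] [Fintype F]

local notation "Ω" => AlgebraicClosure F

/-- A polynomial equal to its reverse. -/
theorem reverse_eq_of_palin {χ : F[X]} {N : ℕ} (hd : χ.natDegree = N)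
    (hs : ∀ k ≤ N, χ.coeff k = χ.coeff (N - k)) : χ.reverse = χ := by
  ext k
  rw [coeff_reverse, hd]
  by_cases hk : k ≤ N
  · rw [revAt_le hk, ← hs k hk]
  · rw [show revAt N k = k from if_neg hk]

theorem aeval_inv_reverse {f : F[X]} {x : Ω} (hx : x ≠ 0) :
    aeval x⁻¹ f.reverse = 0 ↔ aeval x f = 0 := by
  haveI := invertibleOfNonzero hx
  rw [aeval_def, aeval_def, ← invOf_eq_inv x]
  exact eval₂_reverse_eq_zero_iff (algebraMap F Ω) x f

theorem aeval_pow_card {f : F[X]} {x : Ω} (h : aeval x f = 0) :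
    aeval (x ^ Fintype.card F) f = 0 := by
  rw [← expand_aeval (Fintype.card F) f x, FiniteField.expand_card, map_pow, h,
    zero_pow Fintype.card_ne_zero]

/-- The set of non-zero roots is closed under inversion. -/
abbrev InvClosed (f : F[X]) : Prop :=
  ∀ x : Ω, x ≠ 0 → aeval x f = 0 → aeval x⁻¹ f = 0

theorem invClosed_of_reverse {f : F[X]} (hf : f.reverse = f) : InvClosed f := fun x hx h => by
  rw [← hf]
  exact (aeval_inv_reverse hx).2 h

/-- The signed powers of a root are roots. -/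
theorem signedPowers_roots {f : F[X]} (hf : InvClosed f) {N : ℕ} [NeZero N] (u : (ZMod N)ˣ)
    (hu : (u : ZMod N) = (Fintype.card F : ℕ)) {v : (ZMod N)ˣ} (hv : v ∈ signedPowers u) :
    ∀ x : Ω, x ^ N = 1 → aeval x f = 0 → aeval (x ^ (v : ZMod N).val) f = 0 := by
  have hmod : ∀ (x : Ω), x ^ N = 1 → ∀ a : ℕ, x ^ ((a : ZMod N).val) = x ^ a := fun x hx a => by
    rw [ZMod.val_natCast, ← pow_eq_pow_mod a hx]
  have hmul : ∀ a b : (ZMod N)ˣ,
      (∀ x : Ω, x ^ N = 1 → aeval x f = 0 → aeval (x ^ (a : ZMod N).val) f = 0) →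
      (∀ x : Ω, x ^ N = 1 → aeval x f = 0 → aeval (x ^ (b : ZMod N).val) f = 0) →
      ∀ x : Ω, x ^ N = 1 → aeval x f = 0 → aeval (x ^ ((a * b : (ZMod N)ˣ) : ZMod N).val) f = 0 := by
    intro a b ha hb x hx h
    rw [Units.val_mul, ZMod.val_mul, ← pow_eq_pow_mod _ hx, pow_mul]
    exact hb _ (by rw [← pow_mul, mul_comm, pow_mul, hx, one_pow]) (ha x hx h)
  have hone : ∀ x : Ω, x ^ N = 1 → aeval x f = 0 →
      aeval (x ^ ((1 : (ZMod N)ˣ) : ZMod N).val) f = 0 := by
    intro x hx h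
    rw [Units.val_one, ← Nat.cast_one, hmod x hx, pow_one]
    exact h
  induction hv using Subgroup.closure_induction with
  | mem w hw =>
    intro x hx h
    rcases hw with rfl | hw
    · rw [hu, hmod x hx]
      exact aeval_pow_card h
    · rw [Set.mem_singleton_iff] at hw
      subst hw
      have h1 : x ^ ((((-1 : (ZMod N)ˣ) : ZMod N).val) + 1) = 1 := by
        rw [← orderOf_dvd_iff_pow_eq_one]
        refine (orderOf_dvd_of_pow_eq_one hx).trans ?_
        rw [← ZMod.natCast_eq_zero_iff, Nat.cast_add, ZMod.natCast_zmod_val]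
        simp
      rw [pow_succ] at h1
      rw [eq_inv_of_mul_eq_one_left h1]
      have hx0 : x ≠ 0 := fun h0 => by rw [h0, zero_pow (NeZero.ne N)] at hx; exact zero_ne_one hx
      exact hf x hx0 h
  | one => exact hone
  | mul a b _ _ ha hb => exact hmul a b ha hb
  | inv a _ ha =>
    rw [inv_eq_of_mul_eq_one_left (show a ^ (Fintype.card (ZMod N)ˣ - 1) * a = 1 by
      rw [← pow_succ, Nat.sub_add_cancel Fintype.card_pos, pow_card_eq_one])]
    generalize Fintype.card (ZMod N)ˣ - 1 = c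
    induction c with
    | zero => rw [pow_zero]; exact hone
    | succ c ih => rw [pow_succ]; exact hmul _ _ ih ha

variable {ι : Type*} [Fintype ι] [DecidableEq ι]

theorem root_pow_eq {M : Matrix ι ι F} {N : ℕ} {c : F} (hM : M ^ N = Matrix.scalar ι c) {x : Ω}
    (hx : aeval x M.charpoly = 0) : x ^ N = algebraMap F Ω c := by
  set H : Matrix ι ι Ω := (algebraMap F Ω).mapMatrix M with hH
  have hHN : H ^ N = Matrix.scalar ι (algebraMap F Ω c) := by
    rw [hH, ← map_pow, hM]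
    ext i j
    simp [Matrix.scalar_apply, Matrix.diagonal_apply, apply_ite (algebraMap F Ω)]
  rw [aeval_def, ← eval_map, ← charpoly_map, eval_charpoly] at hx
  obtain ⟨v, hv0, hv⟩ := Matrix.exists_mulVec_eq_zero_iff.2 hx
  have hv' : H *ᵥ v = x • v := by
    rw [Matrix.sub_mulVec, sub_eq_zero, Matrix.scalar_apply] at hv
    rw [show x • v = Matrix.diagonal (fun _ : ι => x) *ᵥ v from
      funext fun i => by simp [Matrix.mulVec_diagonal]]
    exact hv.symm
  have hp : ∀ i, (H ^ i) *ᵥ v = x ^ i • v := by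
    intro i
    induction i with
    | zero => simp
    | succ i ih => rw [pow_succ, ← Matrix.mulVec_mulVec, hv', Matrix.mulVec_smul, ih, smul_smul, pow_succ']
  have := hp N
  rw [hHN, show Matrix.scalar ι (algebraMap F Ω c) *ᵥ v = algebraMap F Ω c • v from
    funext fun i => by simp [Matrix.scalar_apply, Matrix.mulVec_diagonal]] at this
  exact smul_left_injective Ω hv0 this.symm

theorem root_pow_eq_one {M : Matrix ι ι F} {N : ℕ} (hM : M ^ N = 1) {x : Ω}
    (hx : aeval x M.charpoly = 0) : x ^ N = 1 :=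
  (root_pow_eq (c := 1) (by rw [hM, map_one]) hx).trans (map_one _)

theorem sep_of_pow_eq_one {M : Matrix ι ι F} {N : ℕ} (hN : (N : F) ≠ 0) (hM : M ^ N = 1) :
    (minpoly Ω ((algebraMap F Ω).mapMatrix M)).Separable := by
  have hN' : (N : Ω) ≠ 0 := by rwa [← map_natCast (algebraMap F Ω), _root_.map_ne_zero]
  refine ((X_pow_sub_one_separable_iff).2 hN').of_dvd (minpoly.dvd Ω _ ?_)
  simp only [map_sub, map_pow, aeval_X, map_one, sub_eq_zero]
  rw [← map_pow, hM, map_one]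

theorem sep_of_charpoly {M : Matrix ι ι F} (h : M.charpoly.Separable) :
    (minpoly Ω ((algebraMap F Ω).mapMatrix M)).Separable := by
  refine (h.map (f := algebraMap F Ω)).of_dvd ?_
  rw [← charpoly_map]
  exact Matrix.minpoly_dvd_charpoly _

/-- A semisimple matrix is killed by a polynomial vanishing at all its eigenvalues. -/
theorem aeval_eq_zero_of_roots {M : Matrix ι ι F}
    (hsep : (minpoly Ω ((algebraMap F Ω).mapMatrix M)).Separable) (g : F[X]) (hg : g ≠ 0)
    (hroot : ∀ x : Ω, aeval x M.charpoly = 0 → aeval x g = 0) : aeval M g = 0 := by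
  classical
  set H : Matrix ι ι Ω := (algebraMap F Ω).mapMatrix M with hH
  have hdvd : minpoly Ω H ∣ H.charpoly := Matrix.minpoly_dvd_charpoly H
  have hle : (minpoly Ω H).roots ≤ (g.map (algebraMap F Ω)).roots := by
    rw [Multiset.le_iff_subset (nodup_roots hsep)]
    intro x hx
    have h1 : IsRoot H.charpoly x := (mem_roots'.1 hx).2.dvd hdvd
    rw [hH, RingHom.mapMatrix_apply, charpoly_map, IsRoot, eval_map, ← aeval_def] at h1
    rw [mem_roots ((Polynomial.map_ne_zero_iff (algebraMap F Ω).injective).2 hg), IsRoot, eval_map,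
      ← aeval_def]
    exact hroot x h1
  have h2 := (IsAlgClosed.splits (minpoly Ω H)).dvd_of_roots_le_roots
    (minpoly.ne_zero (Algebra.IsIntegral.isIntegral H)) hle
  have h3 := aeval_eq_zero_of_dvd_aeval_eq_zero h2 (minpoly.aeval Ω H)
  rw [aeval_map_algebraMap, show H = (Algebra.ofId F Ω).mapMatrix M from rfl, aeval_algHom_apply] at h3
  exact Matrix.map_injective (algebraMap F Ω).injective (h3.trans (Matrix.map_zero _ (map_zero _)).symm)

/-- A semisimple matrix is killed by `X ^ s - c` if all its eigenvalues are. -/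
theorem pow_eq_smul_of_roots {M : Matrix ι ι F}
    (hsep : (minpoly Ω ((algebraMap F Ω).mapMatrix M)).Separable) {s : ℕ} (hs : 0 < s) (c : F)
    (hroot : ∀ x : Ω, aeval x M.charpoly = 0 → x ^ s = algebraMap F Ω c) : M ^ s = c • 1 := by
  have h := aeval_eq_zero_of_roots hsep (X ^ s - C c) (X_pow_sub_C_ne_zero hs c) fun x hx => by
    simp [hroot x hx]
  simpa [sub_eq_zero, Algebra.algebraMap_eq_smul_one] using h

/-- A semisimple matrix is killed by `X ^ s - 1` if all its eigenvalues are. -/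
theorem pow_eq_one_of_roots {M : Matrix ι ι F} {N s : ℕ} (hN : (N : F) ≠ 0) (hM : M ^ N = 1)
    (hroot : ∀ x : Ω, aeval x M.charpoly = 0 → x ^ s = 1) : M ^ s = 1 := by
  rcases Nat.eq_zero_or_pos s with rfl | hs
  · exact pow_zero M
  simpa using pow_eq_smul_of_roots (sep_of_pow_eq_one hN hM) hs 1 (by simpa using hroot)

/-- The number of eigenvalues seen from one root. -/
theorem card_signedPowers_le {f : F[X]} (hf : InvClosed f) {N : ℕ} [NeZero N] (u : (ZMod N)ˣ)
    (hu : (u : ZMod N) = (Fintype.card F : ℕ)) {x : Ω} (hx : orderOf x = N) (h : aeval x f = 0) :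
    ∃ T : Finset Ω, T.card = Nat.card (signedPowers u) ∧ (∀ y ∈ T, aeval y f = 0 ∧ orderOf y = N) ∧
      ∀ y ∈ T, y⁻¹ ∈ T := by
  classical
  refine ⟨(signedPowers u : Set (ZMod N)ˣ).toFinset.image fun v : (ZMod N)ˣ => x ^ (v : ZMod N).val, ?_, ?_, ?_⟩
  rotate_left 2
  · intro y hy
    obtain ⟨v, hv, rfl⟩ := Finset.mem_image.1 hy
    refine Finset.mem_image.2 ⟨v * -1, Set.mem_toFinset.2 (mul_mem (Set.mem_toFinset.1 hv)
      (Subgroup.subset_closure (by simp))), ?_⟩
    refine eq_inv_of_mul_eq_one_left ?_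
    rw [← pow_add, ← orderOf_dvd_iff_pow_eq_one, hx, ← ZMod.natCast_eq_zero_iff, Nat.cast_add,
      ZMod.natCast_zmod_val, ZMod.natCast_zmod_val]
    simp
  · rw [Finset.card_image_of_injOn, Set.toFinset_card, Nat.card_eq_fintype_card]
    · rfl
    intro a _ b _ hab
    refine Units.ext (ZMod.val_injective N ?_)
    exact pow_injOn_Iio_orderOf (by rw [hx]; exact ZMod.val_lt _) (by rw [hx]; exact ZMod.val_lt _) hab
  · intro y hy
    obtain ⟨v, hv, rfl⟩ := Finset.mem_image.1 hy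
    refine ⟨signedPowers_roots hf u hu (Set.mem_toFinset.1 hv) x ?_ h, ?_⟩
    · rw [← hx, pow_orderOf_eq_one]
    · have hc : (orderOf x).Coprime (v : ZMod N).val := by
        rw [hx]; exact (ZMod.val_coe_unit_coprime v).symm
      rw [hc.orderOf_pow, hx]

theorem exists_unit (p : ℕ) [Fact p.Prime] [CharP F p] {N : ℕ} (hN : p.Coprime N) :
    ∃ u : (ZMod N)ˣ, (u : ZMod N) = (Fintype.card F : ℕ) := by
  obtain ⟨f, -, hq⟩ := FiniteField.card F p
  exact ⟨ZMod.unitOfCoprime _ (hq ▸ hN.pow_left f), ZMod.coe_unitOfCoprime _ _⟩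

/-- A root whose order is divisible by `s` has at least `2η` conjugates. -/
theorem orbit_bound (p s : ℕ) [Fact p.Prime] [CharP F p] [Fact s.Prime] (hs2 : s ≠ 2) {f : F[X]}
    (hf : InvClosed f) {l η : ℕ} (hl : l = orderOf ((Fintype.card F : ℕ) : ZMod s))
    (hη : (Odd l ∧ η = l) ∨ (Even l ∧ 2 * η = l)) {N : ℕ} (hN : p.Coprime N) (hsN : s ∣ N) {x : Ω}
    (hx : orderOf x = N) (h : aeval x f = 0) :
    ∃ T : Finset Ω, 2 * η ≤ T.card ∧ (∀ y ∈ T, aeval y f = 0 ∧ orderOf y = N) ∧ ∀ y ∈ T, y⁻¹ ∈ T := by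
  have : NeZero N := ⟨fun h0 => (Fact.out : p.Prime).ne_one (by simpa [h0] using hN)⟩
  obtain ⟨u, hu⟩ := exists_unit (F := F) p hN
  obtain ⟨T, hT, hT', hT''⟩ := card_signedPowers_le hf u hu hx h
  refine ⟨T, ?_, hT', hT''⟩
  set fs := Units.map (ZMod.castHom hsN (ZMod s) : ZMod N →* ZMod s)
  have h1 : orderOf (fs u) = l := by
    rw [← orderOf_units, show ((fs u : (ZMod s)ˣ) : ZMod s) = (Fintype.card F : ℕ) by simp [fs, hu], hl]
  calc 2 * η ≤ Nat.card (signedPowers (fs u)) := two_eta_le hs2 _ (h1.symm ▸ hη)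
    _ = Nat.card ((signedPowers u).map fs) := by rw [← map_signedPowers hsN u]
    _ ≤ Nat.card (signedPowers u) := Nat.le_of_dvd Nat.card_pos (Subgroup.card_map_dvd _ fs)
    _ = T.card := hT.symm

/-- No element of order `r * s`. -/
theorem oddQuot_or_add_le (p r s : ℕ) [Fact p.Prime] [CharP F p] [Fact r.Prime] [Fact s.Prime]
    (hr2 : r ≠ 2) (hs2 : s ≠ 2) (hrp : r ≠ p) (hsp : s ≠ p) (hrs : r ≠ s) {n : ℕ}
    {k l ηk ηl : ℕ} (hk : k = orderOf ((Fintype.card F : ℕ) : ZMod r))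
    (hl : l = orderOf ((Fintype.card F : ℕ) : ZMod s))
    (hηk : (Odd k ∧ ηk = k) ∨ (Even k ∧ 2 * ηk = k)) (hηl : (Odd l ∧ ηl = l) ∨ (Even l ∧ 2 * ηl = l))
    (hkl : ηk ≤ ηl) (M : Matrix ι ι F) (hinv : InvClosed M.charpoly) (hι : Fintype.card ι ≤ 2 * n + 1)
    (hoM : orderOf M = r * s) :
    ηl ≤ n ∧ (ηk + ηl ≤ n ∨ ∃ t, Odd t ∧ l = k * t) := by
  classical
  have hr := (Fact.out : r.Prime)
  have hs := (Fact.out : s.Prime)
  have hp := (Fact.out : p.Prime)
  have : NeZero (r * s) := ⟨Nat.mul_ne_zero hr.ne_zero hs.ne_zero⟩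
  set χ := M.charpoly with hχdef
  have hd : χ.natDegree = Fintype.card ι := Matrix.charpoly_natDegree_eq_dim M
  have hcop : p.Coprime (r * s) := Nat.Coprime.mul_right ((Nat.coprime_primes hp hr).2 hrp.symm)
    ((Nat.coprime_primes hp hs).2 hsp.symm)
  have hN : ((r * s : ℕ) : F) ≠ 0 := fun h => by
    rw [CharP.cast_eq_zero_iff F p] at h
    exact hp.ne_one (hcop.eq_one_of_dvd h)
  have hMN : M ^ (r * s) = 1 := hoM ▸ pow_orderOf_eq_one M
  have hroots : ∀ x : Ω, aeval x χ = 0 → orderOf x ∣ r * s := fun x hx =>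
    orderOf_dvd_of_pow_eq_one (root_pow_eq_one hMN hx)
  have hex : ∀ {a b : ℕ}, a.Prime → 0 < b → a * b = r * s → ∃ x : Ω, aeval x χ = 0 ∧ a ∣ orderOf x := by
    intro a b ha hb hab
    by_contra! hno
    have h1 : M ^ b = 1 := pow_eq_one_of_roots hN hMN fun x hx => by
      refine orderOf_dvd_iff_pow_eq_one.1 ?_
      have h2 := hroots x hx
      rw [← hab] at h2
      exact ((ha.coprime_iff_not_dvd.2 (hno x hx)).symm).dvd_of_dvd_mul_left h2
    have h3 := Nat.le_of_dvd hb (orderOf_dvd_of_pow_eq_one h1)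
    rw [hoM, ← hab] at h3
    have := Nat.mul_le_mul_right b ha.two_le
    omega
  have hcard : ∀ T : Finset Ω, (∀ y ∈ T, aeval y χ = 0) → T.card ≤ 2 * n + 1 := by
    intro T hT
    have hne : χ.map (algebraMap F Ω) ≠ 0 := ((Matrix.charpoly_monic M).map _).ne_zero
    have h1 : T.card ≤ (χ.map (algebraMap F Ω)).roots.toFinset.card :=
      Finset.card_le_card fun y hy => by
        rw [Multiset.mem_toFinset, mem_roots hne, IsRoot, eval_map, ← aeval_def]
        exact hT y hy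
    refine h1.trans ((Multiset.toFinset_card_le _).trans ((card_roots' _).trans ?_))
    rw [natDegree_map, hd]
    exact hι
  obtain ⟨x, hx, hrx⟩ := hex hr hs.pos rfl
  obtain ⟨y, hy, hsy⟩ := hex hs hr.pos (mul_comm s r)
  refine ⟨?_, ?_⟩
  · obtain ⟨T, hTc, hT, -⟩ := orbit_bound p s hs2 hinv hl hηl
      (Nat.Coprime.coprime_dvd_right (hroots y hy) hcop) hsy rfl hy
    have := hcard T fun a ha => (hT a ha).1
    omega
  have big : ∀ z : Ω, aeval z χ = 0 → orderOf z = r * s → ηk + ηl ≤ n ∨ ∃ t, Odd t ∧ l = k * t := by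
    intro z hz hzo
    obtain ⟨u, hu⟩ := exists_unit (F := F) p hcop
    rcases signed_bound hr2 hs2 u hu hk hl hηk hηl hkl with h | h
    · obtain ⟨T, hTc, hT, -⟩ := card_signedPowers_le hinv u hu hzo hz
      have := hcard T fun a ha => (hT a ha).1
      exact Or.inl (by omega)
    · exact Or.inr h
  rcases (Nat.dvd_prime hs).1 (show orderOf x / r ∣ s from
    Nat.div_dvd_iff_dvd_mul hrx hr.pos |>.2 (hroots x hx)) with hx1 | hx1
  swap
  · exact big x hx (by rw [← Nat.div_mul_cancel hrx, hx1, mul_comm])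
  rcases (Nat.dvd_prime hr).1 (show orderOf y / s ∣ r from
    Nat.div_dvd_iff_dvd_mul hsy hs.pos |>.2 (by rw [mul_comm]; exact hroots y hy)) with hy1 | hy1
  swap
  · exact big y hy (by rw [← Nat.div_mul_cancel hsy, hy1])
  have hxo : orderOf x = r := by rw [← Nat.div_mul_cancel hrx, hx1, one_mul]
  have hyo : orderOf y = s := by rw [← Nat.div_mul_cancel hsy, hy1, one_mul]
  refine Or.inl ?_
  obtain ⟨u, hu⟩ := exists_unit (F := F) p ((Nat.coprime_primes hp hr).2 hrp.symm)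
  obtain ⟨v, hv⟩ := exists_unit (F := F) p ((Nat.coprime_primes hp hs).2 hsp.symm)
  obtain ⟨T, hTc, hT, -⟩ := card_signedPowers_le hinv u hu hxo hx
  obtain ⟨T', hTc', hT', -⟩ := card_signedPowers_le hinv v hv hyo hy
  have hdis : Disjoint T T' := Finset.disjoint_left.2 fun a ha ha' =>
    hrs ((hT a ha).2.symm.trans (hT' a ha').2)
  have h1 := two_eta_le hr2 u (η := ηk) (by rw [← orderOf_units, hu, ← hk]; exact hηk)
  have h2 := two_eta_le hs2 v (η := ηl) (by rw [← orderOf_units, hv, ← hl]; exact hηl)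
  have h3 := hcard (T ∪ T') fun a ha => (Finset.mem_union.1 ha).elim (fun h => (hT a h).1) fun h => (hT' a h).1
  rw [Finset.card_union_of_disjoint hdis] at h3
  omega

/-! ### Existence -/

/-- A self-reciprocal polynomial with a primitive `N`-th root of unity as a root. -/
theorem exists_palin (p : ℕ) [Fact p.Prime] [CharP F p] {N d : ℕ} (hN : p.Coprime N) (h2 : 2 < N)
    (hd : (orderOf ((Fintype.card F : ℕ) : ZMod N) = 2 * d ∧
        ((Fintype.card F : ℕ) : ZMod N) ^ d = -1) ∨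
      orderOf ((Fintype.card F : ℕ) : ZMod N) = d) :
    ∃ P : F[X], P.Monic ∧ P.natDegree = 2 * d ∧ P.reverse = P ∧
      (∀ x : Ω, aeval x P = 0 → orderOf x = N) ∧ ∃ x : Ω, aeval x P = 0 ∧ orderOf x = N := by
  classical
  obtain ⟨f, hf, hq⟩ := FiniteField.card F p
  have hp := (Fact.out : p.Prime)
  have hNF : (N : F) ≠ 0 := fun h => by
    rw [CharP.cast_eq_zero_iff F p] at h
    exact hp.ne_one (hN.eq_one_of_dvd h)
  have : NeZero N := ⟨by omega⟩
  have : NeZero (N : Ω) := ⟨by rwa [← map_natCast (algebraMap F Ω), _root_.map_ne_zero]⟩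
  obtain ⟨ζ, hζ⟩ := HasEnoughRootsOfUnity.exists_primitiveRoot Ω N
  have hζint : IsIntegral F ζ := Algebra.IsIntegral.isIntegral ζ
  have hζ0 : ζ ≠ 0 := hζ.ne_zero (NeZero.ne N)
  set m := minpoly F ζ with hm
  have hmmon : m.Monic := minpoly.monic hζint
  have hroot : aeval ζ m = 0 := minpoly.aeval F ζ
  have hcyc : m ∣ cyclotomic N F := minpoly.dvd F ζ <| by
    rw [aeval_def, ← eval_map, map_cyclotomic]
    exact (isRoot_cyclotomic_iff.2 hζ).eq_zero
  have hord : ∀ x : Ω, aeval x m = 0 → orderOf x = N := fun x hx => by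
    have h1 := aeval_eq_zero_of_dvd_aeval_eq_zero hcyc hx
    rw [aeval_def, ← eval_map, map_cyclotomic] at h1
    exact (isRoot_cyclotomic_iff.1 h1).eq_orderOf.symm
  have hdeg : m.natDegree = orderOf ((Fintype.card F : ℕ) : ZMod N) := by
    rw [natDegree_of_dvd_cyclotomic_of_irreducible (p := p) (f := f) hq hN hcyc
      (minpoly.irreducible hζint), ← orderOf_units, ZMod.coe_unitOfCoprime, hq]
  have hm0 : m.coeff 0 ≠ 0 := minpoly.coeff_zero_ne_zero hζint hζ0
  have htr : m.natTrailingDegree = 0 := natTrailingDegree_eq_zero.2 (Or.inr hm0)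
  have hrevdeg : m.reverse.natDegree = m.natDegree := by rw [reverse_natDegree, htr, Nat.sub_zero]
  have hrevlead : m.reverse.leadingCoeff = m.coeff 0 := by
    rw [reverse_leadingCoeff, trailingCoeff, htr]
  rcases hd with ⟨hd2, hneg⟩ | hd1
  · refine ⟨m, hmmon, hdeg.trans hd2, ?_, hord,
      ζ, hroot, hord ζ hroot⟩
    have hiter : ∀ j, aeval (ζ ^ (Fintype.card F ^ j)) m = 0 := by
      intro j
      induction j with
      | zero => simpa using hroot
      | succ j ih => rw [pow_succ, pow_mul]; exact aeval_pow_card ih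
    have hinv : ζ ^ (Fintype.card F ^ d) = ζ⁻¹ := by
      refine eq_inv_of_mul_eq_one_left ?_
      rw [← pow_succ, ← orderOf_dvd_iff_pow_eq_one, ← hζ.eq_orderOf, ← ZMod.natCast_eq_zero_iff,
        Nat.cast_succ, Nat.cast_pow, hneg, neg_add_cancel]
    have h1 : aeval ζ m.reverse = 0 := by
      have h := (aeval_inv_reverse (inv_ne_zero hζ0)).2 (hinv ▸ hiter d)
      rwa [inv_inv] at h
    have h3 : m.reverse = C m.reverse.leadingCoeff * m :=
      eq_leadingCoeff_mul_of_monic_of_dvd_of_natDegree_le hmmon (minpoly.dvd F ζ h1) hrevdeg.le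
    rw [hrevlead] at h3
    have h4 : m.reverse.eval 1 = m.eval 1 := by
      letI := invertibleOne (α := F)
      have := eval₂_reverse_mul_pow (RingHom.id F) (1 : F) m
      simpa [invOf_one] using this
    have hne1 : m.eval 1 ≠ 0 :=
      (minpoly.irreducible hζint).not_isRoot_of_natDegree_ne_one (by rw [hdeg, hd2]; omega) (x := 1)
    rw [h3, eval_mul, eval_C] at h4
    have h5 : m.coeff 0 = 1 := mul_right_cancel₀ hne1 (h4.trans (one_mul _).symm)
    rw [h5, map_one, one_mul] at h3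
    exact h3
  · refine ⟨C (m.coeff 0)⁻¹ * (m * m.reverse), ?_, ?_, ?_, fun x hx => ?_, ζ, ?_, hord ζ hroot⟩
    · rw [Monic, leadingCoeff_mul, leadingCoeff_mul, leadingCoeff_C, hmmon.leadingCoeff, hrevlead,
        one_mul, inv_mul_cancel₀ hm0]
    · rw [natDegree_C_mul (inv_ne_zero hm0), natDegree_mul hmmon.ne_zero
        (by rw [Ne, reverse_eq_zero]; exact hmmon.ne_zero), hrevdeg, hdeg, hd1, two_mul]
    · have hrr : m.reverse.reverse = m := by
        ext k
        rw [coeff_reverse, coeff_reverse, hrevdeg, revAt_invol]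
      rw [reverse_mul_of_domain, reverse_C, reverse_mul_of_domain, hrr, mul_comm m.reverse]
    · rw [map_mul, aeval_C, map_mul, mul_eq_zero, mul_eq_zero] at hx
      rcases hx with hx | hx | hx
      · exact absurd hx (by simpa using hm0)
      · exact hord x hx
      · have hx0 : x ≠ 0 := fun h => by
          rw [h, aeval_def, eval₂_at_zero, coeff_zero_reverse, hmmon.leadingCoeff, map_one] at hx
          exact one_ne_zero hx
        have h3 := hord x⁻¹ ((aeval_inv_reverse (inv_ne_zero hx0)).1 (by rwa [inv_inv]))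
        rw [← h3]
        exact orderOf_eq_orderOf_iff.2 fun n => by rw [inv_pow, inv_eq_one]
    · rw [map_mul, map_mul, hroot, zero_mul, mul_zero]

/-- A semisimple symplectic matrix with a given characteristic polynomial. -/
theorem exists_semisimple (p : ℕ) [Fact p.Prime] [CharP F p] {n : ℕ} {χ : F[X]} (hm : χ.Monic)
    (hd : χ.natDegree = 2 * n) (hrev : χ.reverse = χ) {N : ℕ}
    (hroots : ∀ x : Ω, aeval x χ = 0 → x ^ N = 1) :
    ∃ h : ↥(Matrix.symplecticGroup (Fin n) F), h ^ N = 1 ∧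
      (h : Matrix (Fin n ⊕ Fin n) (Fin n ⊕ Fin n) F).charpoly = χ ∧
      ∀ x : Ω, aeval x χ = 0 → orderOf x ∣ orderOf h := by
  classical
  have hp := (Fact.out : p.Prime)
  obtain ⟨g, hg⟩ := CfsgLib.SemisimpleClasses.Symp.exists_sp_charpoly hm hd fun k hk => by
    conv_lhs => rw [← hrev, coeff_reverse, hd, revAt_le hk]
  obtain ⟨⟨f, hf⟩, -, hq⟩ := FiniteField.card F p
  set a := (orderOf g).factorization p
  set h := g ^ (Fintype.card F ^ a) with hh
  have hpw : ∀ (b : ℕ) (M : Matrix (Fin n ⊕ Fin n) (Fin n ⊕ Fin n) F),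
      (M ^ (Fintype.card F ^ b)).charpoly = M.charpoly := by
    intro b
    induction b with
    | zero => intro M; simp
    | succ b ih =>
      intro M
      rw [pow_succ, pow_mul, FiniteField.Matrix.charpoly_pow_card, ih]
  have hχ : (h : Matrix (Fin n ⊕ Fin n) (Fin n ⊕ Fin n) F).charpoly = χ := by
    rw [hh, SubmonoidClass.coe_pow, hpw, hg]
  have hco : ¬ p ∣ orderOf h := by
    intro hdvd
    have h1 : orderOf h ∣ orderOf g / p ^ a := by
      refine orderOf_dvd_of_pow_eq_one ?_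
      rw [hh, ← pow_mul]
      refine orderOf_dvd_iff_pow_eq_one.1 ?_
      conv_lhs => rw [← Nat.ordProj_mul_ordCompl_eq_self (orderOf g) p]
      rw [hq]
      exact Nat.mul_dvd_mul (pow_dvd_pow_of_dvd (dvd_pow_self p hf.ne') _) dvd_rfl
    exact Nat.not_dvd_ordCompl hp (orderOf_pos g).ne' (hdvd.trans h1)
  set M : Matrix (Fin n ⊕ Fin n) (Fin n ⊕ Fin n) F := h.1
  have hM : M ^ orderOf h = 1 := congrArg Subtype.val (pow_orderOf_eq_one h)
  refine ⟨h, Subtype.ext ?_, hχ, fun x hx => orderOf_dvd_of_pow_eq_one (root_pow_eq_one hM (hχ.symm ▸ hx))⟩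
  exact pow_eq_one_of_roots (fun h0 => hco ((CharP.cast_eq_zero_iff F p _).1 h0)) hM
    fun x hx => hroots x (hχ ▸ hx)

theorem reverse_filler (e : ℕ) : (((X - C 1) ^ 2) ^ e : F[X]).reverse = ((X - C 1) ^ 2) ^ e := by
  induction e with
  | zero => rw [pow_zero, ← C_1, reverse_C]
  | succ e ih =>
    rw [pow_succ, reverse_mul_of_domain, ih]
    congr 1
    refine reverse_eq_of_palin (N := 2) (by rw [natDegree_pow, natDegree_X_sub_C]) fun k hk => ?_
    have : ((X - C 1) ^ 2 : F[X]) = X ^ 2 - 2 * X + 1 := by rw [C_1]; ring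
    rw [this]
    interval_cases k <;> simp [coeff_one, coeff_X]

/-- The order of `q` modulo `r * s` when `l / k` is odd. -/
theorem quot_orders {r s : ℕ} [Fact r.Prime] [Fact s.Prime] (hr2 : r ≠ 2) (hs2 : s ≠ 2) (hrs : r ≠ s)
    {k l ηk ηl : ℕ} (hk : k = orderOf ((Fintype.card F : ℕ) : ZMod r))
    (hl : l = orderOf ((Fintype.card F : ℕ) : ZMod s))
    (hηk : (Odd k ∧ ηk = k) ∨ (Even k ∧ 2 * ηk = k)) (hηl : (Odd l ∧ ηl = l) ∨ (Even l ∧ 2 * ηl = l))
    {t : ℕ} (ht : Odd t) (hlt : l = k * t) (hl0' : 0 < ηl) :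
    (orderOf ((Fintype.card F : ℕ) : ZMod (r * s)) = 2 * ηl ∧
        ((Fintype.card F : ℕ) : ZMod (r * s)) ^ ηl = -1) ∨
      orderOf ((Fintype.card F : ℕ) : ZMod (r * s)) = ηl := by
  have hrs' : r.Coprime s := (Nat.coprime_primes Fact.out Fact.out).2 hrs
  have hk0 : 0 < k := Nat.pos_of_ne_zero fun h => by
    rw [h, zero_mul] at hlt
    rcases hηl with ⟨-, e⟩ | ⟨-, e⟩ <;> omega
  set Q := Fintype.card F
  have hcrt : ∀ j : ℕ, ((Q : ZMod (r * s))) ^ j = 1 ↔ l ∣ j := by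
    intro j
    have e : ∀ N : ℕ, ((Q : ZMod N)) ^ j = 1 ↔ Q ^ j ≡ 1 [MOD N] := fun N => by
      rw [← ZMod.natCast_eq_natCast_iff, Nat.cast_pow, Nat.cast_one]
    rw [e, ← Nat.modEq_and_modEq_iff_modEq_mul hrs', ← e, ← e, ← orderOf_dvd_iff_pow_eq_one,
      ← orderOf_dvd_iff_pow_eq_one, ← hk, ← hl]
    exact ⟨fun h => h.2, fun h => ⟨(hlt ▸ dvd_mul_right k t).trans h, h⟩⟩
  have hord : orderOf (Q : ZMod (r * s)) = l := Nat.dvd_antisymm
    (orderOf_dvd_of_pow_eq_one ((hcrt l).2 dvd_rfl)) ((hcrt _).1 (pow_orderOf_eq_one _))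
  have hN' : (orderOf (Q : ZMod (r * s)) = 2 * ηl ∧ (Q : ZMod (r * s)) ^ ηl = -1) ∨
      orderOf (Q : ZMod (r * s)) = ηl := by
    rcases hηl with ⟨-, e⟩ | ⟨hle, e⟩
    · exact Or.inr (by omega)
    · refine Or.inl ⟨by omega, ?_⟩
      have hke : Even k := by
        by_contra ho
        exact Nat.not_odd_iff_even.2 hle (hlt ▸ (Nat.not_even_iff_odd.1 ho).mul ht)
      obtain ⟨-, ek⟩ := hηk.resolve_left fun h => Nat.not_odd_iff_even.2 hke h.1
      have e2 : ηl = ηk * t := by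
        have : 2 * ηl = 2 * (ηk * t) := by rw [e, ← mul_assoc, ek, hlt]
        omega
      have d1 : r ∣ Q ^ ηl + 1 := by
        rw [← ZMod.natCast_eq_zero_iff, Nat.cast_succ, Nat.cast_pow, e2, pow_mul,
          pow_eq_neg_one (x := (Q : ZMod r)) (by omega) (by omega), ht.neg_one_pow, neg_add_cancel]
      have d2 : s ∣ Q ^ ηl + 1 := by
        rw [← ZMod.natCast_eq_zero_iff, Nat.cast_succ, Nat.cast_pow,
          pow_eq_neg_one (x := (Q : ZMod s)) (by omega) (by omega), neg_add_cancel]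
      have d3 := (ZMod.natCast_eq_zero_iff _ _).2 (hrs'.mul_dvd_of_dvd_of_dvd d1 d2)
      rw [Nat.cast_succ, Nat.cast_pow] at d3
      exact eq_neg_of_add_eq_zero_left d3
  exact hN'

/-- The criterion. -/
theorem sp_adjacent_iff (p r s : ℕ) [Fact p.Prime] [CharP F p] [Fact r.Prime] [Fact s.Prime]
    (hr2 : r ≠ 2) (hs2 : s ≠ 2) (hrp : r ≠ p) (hsp : s ≠ p) (hrs : r ≠ s) {n : ℕ}
    {k l ηk ηl : ℕ} (hk : k = orderOf ((Fintype.card F : ℕ) : ZMod r))
    (hl : l = orderOf ((Fintype.card F : ℕ) : ZMod s))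
    (hηk : (Odd k ∧ ηk = k) ∨ (Even k ∧ 2 * ηk = k)) (hηl : (Odd l ∧ ηl = l) ∨ (Even l ∧ 2 * ηl = l))
    (hkl : ηk ≤ ηl) :
    r * s ∈ Set.range (orderOf : ↥(Matrix.symplecticGroup (Fin n) F) → ℕ) ↔
      ηl ≤ n ∧ (ηk + ηl ≤ n ∨ ∃ t, Odd t ∧ l = k * t) := by
  classical
  have hr := (Fact.out : r.Prime)
  have hs := (Fact.out : s.Prime)
  have hp := (Fact.out : p.Prime)
  have hr3 : 2 < r := lt_of_le_of_ne hr.two_le (Ne.symm hr2)
  have hs3 : 2 < s := lt_of_le_of_ne hs.two_le (Ne.symm hs2)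
  have hpr : p.Coprime r := (Nat.coprime_primes hp hr).2 hrp.symm
  have hps : p.Coprime s := (Nat.coprime_primes hp hs).2 hsp.symm
  have hrs' : r.Coprime s := (Nat.coprime_primes hr hs).2 hrs
  constructor
  · rintro ⟨g, hg⟩
    obtain ⟨hd, hpal⟩ := CfsgLib.SemisimpleClasses.Symp.charpoly_palin g
    refine (oddQuot_or_add_le p r s hr2 hs2 hrp hsp hrs hk hl hηk hηl hkl g.1
      (invClosed_of_reverse (reverse_eq_of_palin hd hpal)) (by simp; omega) ?_)
    rw [← hg]
    exact orderOf_injective (Matrix.symplecticGroup (Fin n) F).subtype Subtype.val_injective g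
  rintro ⟨hln, hcase⟩
  have hk0 : 0 < k := by
    obtain ⟨u, hu⟩ := exists_unit (F := F) p hpr
    rw [hk, ← hu, orderOf_units]; exact orderOf_pos u
  have hl0 : 0 < l := by
    obtain ⟨u, hu⟩ := exists_unit (F := F) p hps
    rw [hl, ← hu, orderOf_units]; exact orderOf_pos u
  suffices hh : ∃ χ : F[X], χ.Monic ∧ χ.natDegree = 2 * n ∧ χ.reverse = χ ∧
      (∀ x : Ω, aeval x χ = 0 → x ^ (r * s) = 1) ∧
      (∃ x : Ω, aeval x χ = 0 ∧ r ∣ orderOf x) ∧ (∃ x : Ω, aeval x χ = 0 ∧ s ∣ orderOf x) by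
    obtain ⟨χ, hm, hd, hrev, hroots, ⟨x, hx, hx'⟩, ⟨y, hy, hy'⟩⟩ := hh
    obtain ⟨h, hN, -, hord⟩ := exists_semisimple p hm hd hrev hroots
    exact ⟨h, Nat.dvd_antisymm (orderOf_dvd_of_pow_eq_one hN)
      (hrs'.mul_dvd_of_dvd_of_dvd (hx'.trans (hord x hx)) (hy'.trans (hord y hy)))⟩
  have fill : ∀ {P : F[X]} {d : ℕ}, d ≤ n → P.Monic → P.natDegree = 2 * d → P.reverse = P →
      (∀ x : Ω, aeval x P = 0 → x ^ (r * s) = 1) →
      ∃ χ : F[X], χ.Monic ∧ χ.natDegree = 2 * n ∧ χ.reverse = χ ∧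
        (∀ x : Ω, aeval x χ = 0 → x ^ (r * s) = 1) ∧ ∀ x : Ω, aeval x P = 0 → aeval x χ = 0 := by
    intro P d hdn hm hd hrev hroots
    have hf : (((X - C 1) ^ 2) ^ (n - d) : F[X]).Monic := ((monic_X_sub_C 1).pow 2).pow _
    refine ⟨P * ((X - C 1) ^ 2) ^ (n - d), hm.mul hf, ?_, ?_, fun x hx => ?_, fun x hx => ?_⟩
    · rw [hm.natDegree_mul hf, hd, natDegree_pow, natDegree_pow, natDegree_X_sub_C]
      omega
    · rw [reverse_mul_of_domain, hrev, reverse_filler]
    · rw [map_mul, mul_eq_zero] at hx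
      rcases hx with hx | hx
      · exact hroots x hx
      · simp only [map_pow, map_sub, aeval_X, map_one] at hx
        have := eq_zero_of_pow_eq_zero (eq_zero_of_pow_eq_zero hx)
        rw [sub_eq_zero] at this
        rw [this, one_pow]
    · rw [map_mul, hx, zero_mul]
  rcases hcase with h | ⟨t, ht, hlt⟩
  · have hr' : (orderOf ((Fintype.card F : ℕ) : ZMod r) = 2 * ηk ∧
        ((Fintype.card F : ℕ) : ZMod r) ^ ηk = -1) ∨ orderOf ((Fintype.card F : ℕ) : ZMod r) = ηk := by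
      rcases hηk with ⟨-, e⟩ | ⟨-, e⟩
      · exact Or.inr (by omega)
      · exact Or.inl ⟨by omega, pow_eq_neg_one (by omega) (by omega)⟩
    have hs' : (orderOf ((Fintype.card F : ℕ) : ZMod s) = 2 * ηl ∧
        ((Fintype.card F : ℕ) : ZMod s) ^ ηl = -1) ∨ orderOf ((Fintype.card F : ℕ) : ZMod s) = ηl := by
      rcases hηl with ⟨-, e⟩ | ⟨-, e⟩
      · exact Or.inr (by omega)
      · exact Or.inl ⟨by omega, pow_eq_neg_one (by omega) (by omega)⟩
    obtain ⟨P, hPm, hPd, hPr, hPN', x, hx, hxo⟩ := exists_palin (F := F) p hpr hr3 hr'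
    obtain ⟨Q, hQm, hQd, hQr, hQN', y, hy, hyo⟩ := exists_palin (F := F) p hps hs3 hs'
    have hPN : ∀ z : Ω, aeval z P = 0 → z ^ r = 1 := fun z hz => hPN' z hz ▸ pow_orderOf_eq_one z
    have hQN : ∀ z : Ω, aeval z Q = 0 → z ^ s = 1 := fun z hz => hQN' z hz ▸ pow_orderOf_eq_one z
    obtain ⟨χ, h1, h2, h3, h4, h5⟩ := fill (P := P * Q) (d := ηk + ηl) h (hPm.mul hQm)
      (by rw [hPm.natDegree_mul hQm, hPd, hQd]; ring) (by rw [reverse_mul_of_domain, hPr, hQr])
      (fun z hz => by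
        rw [map_mul, mul_eq_zero] at hz
        rcases hz with hz | hz
        · rw [pow_mul, hPN z hz, one_pow]
        · rw [mul_comm, pow_mul, hQN z hz, one_pow])
    exact ⟨χ, h1, h2, h3, h4, ⟨x, h5 x (by rw [map_mul, hx, zero_mul]), hxo.symm.dvd⟩,
      ⟨y, h5 y (by rw [map_mul, hy, mul_zero]), hyo.symm.dvd⟩⟩
  · have hN3 : 2 < r * s := lt_of_lt_of_le hr3 (Nat.le_mul_of_pos_right r hs.pos)
    have hpN : p.Coprime (r * s) := hpr.mul_right hps
    have hN' := quot_orders hr2 hs2 hrs hk hl hηk hηl ht hlt (hηl.elim (fun h => h.2 ▸ hl0) fun h => by omega)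
    obtain ⟨P, hPm, hPd, hPr, hPN', x, hx, hxo⟩ := exists_palin (F := F) p hpN hN3 hN'
    have hPN : ∀ z : Ω, aeval z P = 0 → z ^ (r * s) = 1 := fun z hz => hPN' z hz ▸ pow_orderOf_eq_one z
    obtain ⟨χ, h1, h2, h3, h4, h5⟩ := fill hln hPm hPd hPr hPN
    exact ⟨χ, h1, h2, h3, h4, ⟨x, h5 x hx, hxo ▸ dvd_mul_right r s⟩, ⟨x, h5 x hx, hxo ▸ dvd_mul_left s r⟩⟩

end CfsgLib.Singer.Symp
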